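import Mathlib

/-!
# TEAM PPD (S5948): numeric facts for the twisted groups (helper12)
-/

set_option autoImplicit false

namespace Cfsg.Agent.H12.Ppd

theorem le_of_dvd_of {s a B : ℕ} (h : s ∣ a) (ha : 0 < a) (hB : a ≤ B) : s ≤ B := (Nat.le_of_dvd ha h).trans hB

theorem sq_sub_one {a : ℕ} : a ^ 2 - 1 = (a + 1) * (a - 1) := by
  have := Nat.sq_sub_sq a 1
  rwa [one_pow] at this

/-- `²E₆(q)` -/
theorem num_2e6 {q s : ℕ} (hq : 2 ≤ q) (hs : s.Prime)
    (h : s ∣ q ^ 36 * (q ^ 2 - 1) * (q ^ 5 + 1) * (q ^ 6 - 1) * (q ^ 8 - 1) * (q ^ 9 + 1) * (q ^ 12 - 1)) :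
    2 * s < (q - 1) * q ^ 6 + 3 := by
  rcases Nat.lt_or_ge q 3 with h3 | h3
  · have hq2 : q = 2 := by omega
    subst hq2
    have h1 : 2 ^ 36 * (2 ^ 2 - 1) * (2 ^ 5 + 1) * (2 ^ 6 - 1) * (2 ^ 8 - 1) * (2 ^ 9 + 1) * (2 ^ 12 - 1) =
        2 ^ 36 * (3 * 33 * 21 * 3 * 15 * 17 * 27 * 19 * 21 * 3 * 13 * 5) := by norm_num
    rw [h1] at h
    have h2 : s ≤ 33 := by
      rcases hs.dvd_mul.1 h with h | h
      · exact le_of_dvd_of (hs.dvd_of_dvd_pow h) (by norm_num) (by norm_num)
      · rcases hs.dvd_mul.1 h with h | h
        · rcases hs.dvd_mul.1 h with h | h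
          · rcases hs.dvd_mul.1 h with h | h
            · rcases hs.dvd_mul.1 h with h | h
              · rcases hs.dvd_mul.1 h with h | h
                · rcases hs.dvd_mul.1 h with h | h
                  · rcases hs.dvd_mul.1 h with h | h
                    · rcases hs.dvd_mul.1 h with h | h
                      · rcases hs.dvd_mul.1 h with h | h
                        · rcases hs.dvd_mul.1 h with h | h
                          · rcases hs.dvd_mul.1 h with h | h
                            all_goals exact le_of_dvd_of h (by norm_num) (by norm_num)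
                          all_goals exact le_of_dvd_of h (by norm_num) (by norm_num)
                        all_goals exact le_of_dvd_of h (by norm_num) (by norm_num)
                      all_goals exact le_of_dvd_of h (by norm_num) (by norm_num)
                    all_goals exact le_of_dvd_of h (by norm_num) (by norm_num)
                  all_goals exact le_of_dvd_of h (by norm_num) (by norm_num)
                all_goals exact le_of_dvd_of h (by norm_num) (by norm_num)
              all_goals exact le_of_dvd_of h (by norm_num) (by norm_num)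
            all_goals exact le_of_dvd_of h (by norm_num) (by norm_num)
          all_goals exact le_of_dvd_of h (by norm_num) (by norm_num)
        all_goals exact le_of_dvd_of h (by norm_num) (by norm_num)
    norm_num
    omega
  · have hp : ∀ i j : ℕ, i ≤ j → q ^ i ≤ q ^ j := fun i j hij => Nat.pow_le_pow_right (by omega) hij
    have h1 : ∀ i : ℕ, 1 ≤ i → 3 ≤ q ^ i := fun i hi => h3.trans (Nat.le_self_pow (by omega) q)
    have key : s ≤ q ^ 6 + 1 := by
      rcases hs.dvd_mul.1 h with h | h
      · rcases hs.dvd_mul.1 h with h | h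
        · rcases hs.dvd_mul.1 h with h | h
          · rcases hs.dvd_mul.1 h with h | h
            · rcases hs.dvd_mul.1 h with h | h
              · rcases hs.dvd_mul.1 h with h | h
                · refine le_of_dvd_of (hs.dvd_of_dvd_pow h) (by omega) ?_
                  have := Nat.le_self_pow (n := 6) (by norm_num) q
                  omega
                · have := hp 2 6 (by norm_num)
                  have := h1 2 (by norm_num)
                  exact le_of_dvd_of h (by omega) (by omega)
              · have := hp 5 6 (by norm_num)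
                exact le_of_dvd_of h (by omega) (by omega)
            · have := h1 6 (by norm_num)
              exact le_of_dvd_of h (by omega) (by omega)
          · have e : q ^ 8 - 1 = (q ^ 4 + 1) * (q ^ 4 - 1) := by rw [← sq_sub_one, ← pow_mul]
            rw [e] at h
            have := hp 4 6 (by norm_num)
            have := h1 4 (by norm_num)
            rcases hs.dvd_mul.1 h with h | h
            · exact le_of_dvd_of h (by omega) (by omega)
            · exact le_of_dvd_of h (by omega) (by omega)
        · obtain ⟨d, hd⟩ := Nat.exists_eq_add_of_le (hp 3 6 (by norm_num))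
          have e : q ^ 9 + 1 = (q ^ 3 + 1) * (d + 1) := by
            have e1 : q ^ 9 = q ^ 3 * q ^ 6 := by rw [← pow_add]
            have e2 : q ^ 6 = q ^ 3 * q ^ 3 := by rw [← pow_add]
            rw [e1]
            conv_lhs => rw [hd]
            rw [e2] at hd
            rw [mul_add, hd]
            ring
          rw [e] at h
          have := hp 3 6 (by norm_num)
          rcases hs.dvd_mul.1 h with h | h
          · exact le_of_dvd_of h (by omega) (by omega)
          · exact le_of_dvd_of h (by omega) (by omega)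
      · have e : q ^ 12 - 1 = (q ^ 6 + 1) * (q ^ 6 - 1) := by rw [← sq_sub_one, ← pow_mul]
        rw [e] at h
        have := h1 6 (by norm_num)
        rcases hs.dvd_mul.1 h with h | h
        · exact le_of_dvd_of h (by omega) (by omega)
        · exact le_of_dvd_of h (by omega) (by omega)
    have h2 : 2 * q ^ 6 ≤ (q - 1) * q ^ 6 := Nat.mul_le_mul_right _ (by omega)
    omega

/-- `³D₄(q)` -/
theorem num_3d4 {q s : ℕ} (hq : 3 ≤ q) (hs : s.Prime)
    (h : s ∣ q ^ 12 * (q ^ 2 - 1) * (q ^ 6 - 1) * (q ^ 8 + q ^ 4 + 1)) :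
    2 * s < (q - 1) * q ^ 4 + 3 := by
  have hp : ∀ i j : ℕ, i ≤ j → q ^ i ≤ q ^ j := fun i j hij => Nat.pow_le_pow_right (by omega) hij
  have h1 : ∀ i : ℕ, 1 ≤ i → 3 ≤ q ^ i := fun i hi => hq.trans (Nat.le_self_pow (by omega) q)
  have key : s ≤ q ^ 4 + 1 := by
    rcases hs.dvd_mul.1 h with h | h
    · rcases hs.dvd_mul.1 h with h | h
      · rcases hs.dvd_mul.1 h with h | h
        · refine le_of_dvd_of (hs.dvd_of_dvd_pow h) (by omega) ?_
          have := Nat.le_self_pow (n := 4) (by norm_num) q
          omega
        · have := hp 2 4 (by norm_num)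
          have := h1 2 (by norm_num)
          exact le_of_dvd_of h (by omega) (by omega)
      · have e : q ^ 6 - 1 = (q ^ 3 + 1) * (q ^ 3 - 1) := by rw [← sq_sub_one, ← pow_mul]
        rw [e] at h
        have := h1 3 (by norm_num)
        have := hp 3 4 (by norm_num)
        rcases hs.dvd_mul.1 h with h | h
        · exact le_of_dvd_of h (by omega) (by omega)
        · exact le_of_dvd_of h (by omega) (by omega)
    · obtain ⟨d, hd⟩ := Nat.exists_eq_add_of_le (hp 2 4 (by norm_num))
      have e : q ^ 8 + q ^ 4 + 1 = (q ^ 4 + q ^ 2 + 1) * (d + 1) := by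
        have e1 : q ^ 8 = q ^ 4 * q ^ 4 := by rw [← pow_add]
        have e2 : q ^ 4 = q ^ 2 * q ^ 2 := by rw [← pow_add]
        have e3 : q ^ 2 * q ^ 2 = q ^ 2 + d := by rw [← e2, hd]
        rw [e1, hd]
        nlinarith
      have e' : q ^ 4 + q ^ 2 + 1 = (q ^ 2 + q + 1) * (q ^ 2 - q + 1) := by
        obtain ⟨d, hd⟩ := Nat.exists_eq_add_of_le (hp 1 2 (by norm_num))
        rw [pow_one] at hd
        have e2 : q ^ 4 = q ^ 2 * q ^ 2 := by rw [← pow_add]
        have e3 : q * q = q + d := by rw [← hd]; ring
        rw [e2, hd, Nat.add_sub_cancel_left]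
        nlinarith
      rw [e, e'] at h
      have h5 := hp 1 4 (by norm_num)
      have h6 := hp 2 4 (by norm_num)
      have h7 : 3 * q ^ 2 ≤ q ^ 4 := by
        have e2 : q ^ 4 = q ^ 2 * q ^ 2 := by rw [← pow_add]
        rw [e2]
        exact Nat.mul_le_mul_right _ (h1 2 (by norm_num))
      have h8 := hp 1 2 (by norm_num)
      rw [pow_one] at h5 h8
      rcases hs.dvd_mul.1 h with h | h
      · rcases hs.dvd_mul.1 h with h | h
        · exact le_of_dvd_of h (by omega) (by omega)
        · exact le_of_dvd_of h (by omega) (by omega)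
      · exact le_of_dvd_of h (by omega) (by omega)
  have h2 : 2 * q ^ 4 ≤ (q - 1) * q ^ 4 := Nat.mul_le_mul_right _ (by omega)
  omega

/-- `²F₄(q)`, `t ^ 2 = 2 q` -/
theorem num_2f4 {q t s : ℕ} (hq : 8 ≤ q) (ht : t * t = 2 * q) (htq : 2 * t ≤ q) (hs : s.Prime)
    (h : s ∣ q ^ 12 * (q - 1) * (q ^ 3 + 1) * (q ^ 4 - 1) * (q ^ 6 + 1)) :
    2 * s < (q - 1) * q ^ 2 + 3 := by
  have hp : ∀ i j : ℕ, i ≤ j → q ^ i ≤ q ^ j := fun i j hij => Nat.pow_le_pow_right (by omega) hij
  have h1 : ∀ i : ℕ, 1 ≤ i → 8 ≤ q ^ i := fun i hi => hq.trans (Nat.le_self_pow (by omega) q)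
  have hq2 : 8 * q ≤ q ^ 2 := by rw [pow_two]; exact Nat.mul_le_mul_right _ hq
  have key : s ≤ 2 * q ^ 2 + 1 := by
    rcases hs.dvd_mul.1 h with h | h
    · rcases hs.dvd_mul.1 h with h | h
      · rcases hs.dvd_mul.1 h with h | h
        · rcases hs.dvd_mul.1 h with h | h
          · refine le_of_dvd_of (hs.dvd_of_dvd_pow h) (by omega) ?_
            omega
          · exact le_of_dvd_of h (by omega) (by omega)
        · obtain ⟨d, hd⟩ := Nat.exists_eq_add_of_le (hp 1 2 (by norm_num))
          rw [pow_one] at hd
          have e3 : q * q = q + d := by rw [← hd]; ring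
          have e : q ^ 3 + 1 = (q + 1) * (d + 1) := by
            have e1 : q ^ 3 = q * (q * q) := by ring
            rw [e1, e3]
            nlinarith
          rw [e] at h
          rcases hs.dvd_mul.1 h with h | h
          · exact le_of_dvd_of h (by omega) (by omega)
          · exact le_of_dvd_of h (by omega) (by omega)
      · have e : q ^ 4 - 1 = (q ^ 2 + 1) * (q ^ 2 - 1) := by rw [← sq_sub_one, ← pow_mul]
        rw [e] at h
        have := h1 2 (by norm_num)
        rcases hs.dvd_mul.1 h with h | h
        · exact le_of_dvd_of h (by omega) (by omega)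
        · exact le_of_dvd_of h (by omega) (by omega)
    · obtain ⟨b, hb⟩ : ∃ b, q ^ 2 + q + 1 = t * q + t + b := by
        apply Nat.exists_eq_add_of_le
        nlinarith
      have e : q ^ 6 + 1 = (q ^ 2 + 1) * ((q ^ 2 + t * q + q + t + 1) * b) := by
        have e1 : (t * q + t) * (t * q + t) = 2 * q * (q + 1) * (q + 1) := by
          calc (t * q + t) * (t * q + t) = (t * t) * (q + 1) * (q + 1) := by ring
            _ = _ := by rw [ht]
        have e2 : (q ^ 2 + q + 1) * (q ^ 2 + q + 1) = (t * q + t) * (t * q + t) + (q ^ 2 + t * q + q + t + 1) * b := by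
          have : (q ^ 2 + t * q + q + t + 1) = (t * q + t + b) + (t * q + t) := by rw [← hb]; ring
          rw [this, hb]
          ring
        have e3 : (q ^ 2 + t * q + q + t + 1) * b + q ^ 2 = q ^ 4 + 1 := by
          rw [e1] at e2
          nlinarith
        have e4 : (q ^ 2 + 1) * ((q ^ 2 + t * q + q + t + 1) * b) + (q ^ 2 + 1) * q ^ 2 = (q ^ 2 + 1) * (q ^ 4 + 1) := by
          rw [← mul_add, e3]
        nlinarith
      rw [e] at h
      have h9 : t * q ≤ q ^ 2 := by nlinarith
      have h10 : 2 * (t * q) ≤ q ^ 2 := by nlinarith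
      have hb0 : 0 < b := by
        rcases Nat.eq_zero_or_pos b with hb0 | hb0
        · rw [hb0, mul_zero, mul_zero] at e
          omega
        · exact hb0
      rcases hs.dvd_mul.1 h with h | h
      · exact le_of_dvd_of h (by omega) (by omega)
      · rcases hs.dvd_mul.1 h with h | h
        · exact le_of_dvd_of h (by omega) (by omega)
        · exact le_of_dvd_of h hb0 (by omega)
  have h2 : 7 * q ^ 2 ≤ (q - 1) * q ^ 2 := Nat.mul_le_mul_right _ (by omega)
  have := h1 2 (by norm_num)
  omega

end Cfsg.Agent.H12.Ppd
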