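import Cfsg.Agent.H12.Ppd.Tools
import Cfsg.Agent.H12.Ppd.Num
import Cfsg.Agent.H203.LSTwE6
import Cfsg.Agent.H203.LSTwD4
import Cfsg.Agent.H203.LSTwF4
import Cfsg.Agent.H867.TitsOut
import Cfsg.Agent.S1066
import Cfsg.Agent.S1067
import Cfsg.Agent.S1068
import Cfsg.Agent.S1074
import Cfsg.Agent.S2128
import Cfsg.Agent.S2129
import Cfsg.Agent.S2130

/-!
# TEAM PPD (S5948): `²E₆(q)`, `³D₄(q)`, `²F₄(q)`, the Tits group (helper12)
-/

set_option autoImplicit false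
set_option linter.unusedSectionVars false
set_option linter.style.haveILetI false

namespace Cfsg.Agent.H12.Ppd

open Cfsg Cfsg.Geo Matrix
open Cfsg.Agent.H915.LD Cfsg.Agent.H100.Ppd

universe u v w

variable {n : ℕ} {F : Type u} [Field F] [Finite F] {k m : ℕ} {P : Subgroup (GL (Fin n) F)}

/-- `q = p ^ f` -/
theorem exists_pf {K : Type v} [Field K] [Fintype K] {q d : ℕ} (hq : IsPrimePow q) (hd : 1 ≤ d)
    (hK : Fintype.card K = q ^ d) : ∃ p f : ℕ, p.Prime ∧ 1 ≤ f ∧ q = p ^ f ∧ CharP K p := by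
  obtain ⟨p, f, hp, hf, rfl⟩ := hq
  have hp' := hp.nat_prime
  refine ⟨p, f, hp', hf, rfl, ?_⟩
  obtain ⟨r, hr⟩ := CharP.exists K
  obtain ⟨j, hrp, hj⟩ := FiniteField.card K r
  have h1 : r ∣ (p ^ f) ^ d := by rw [← hK, hj]; exact dvd_pow_self r j.pos.ne'
  have h2 : r = p := (Nat.prime_dvd_prime_iff_eq hrp hp').1 (hrp.dvd_of_dvd_pow (hrp.dvd_of_dvd_pow h1))
  rwa [← h2]

theorem lt_self_pow' {p f : ℕ} (hp : p.Prime) : f < p ^ f := Nat.lt_pow_self hp.one_lt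

/-- **`²E₆(q)`** -/
theorem row_2e6 {K : Type v} [Field K] [Fintype K] {q₀ r : ℕ} (hq : IsPrimePow q₀) (hK : Fintype.card K = q₀ ^ 2)
    [CharP K r] (hrF : (r : F) ≠ 0) (h : Row k m P) (e : Soc P ≃* Lie.twistedE6 K q₀) : False := by
  have hn := h.le_of_ls e hrF (H203.LS.TwE6.ls hq hK)
  haveI : Finite ↥(Lie.twistedE6 K q₀) := Finite.of_equiv _ e.toEquiv
  obtain ⟨s, hs, h2, h7, hd⟩ := exists_prime_dvd h e
  obtain ⟨p, f, hp, hf, hqp, hc⟩ := exists_pf hq (by norm_num) hK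
  have hq2 : 2 ≤ q₀ := hq.two_le
  rcases hd with hd | hd
  · have h1 := Cfsg.Agent.S1066.result hq hK
    have h3 := num_2e6 hq2 hs (h1 ▸ Dvd.dvd.mul_left hd _)
    omega
  · haveI : Fact p.Prime := ⟨hp⟩
    rw [hqp, Cfsg.Agent.S2130.result p f (by rw [hK, hqp, ← pow_mul, mul_comm]) hf] at hd
    have h5 : s ≤ f := by
      rcases hs.dvd_mul.1 hd with hd | hd
      · rcases hs.dvd_mul.1 hd with hd | hd
        · have := Nat.le_of_dvd (by norm_num) hd
          omega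
        · have := Nat.le_of_dvd (by norm_num) (hd.trans (Nat.gcd_dvd_left _ _))
          omega
      · exact Nat.le_of_dvd hf hd
    have h6 := lt_self_pow' (f := f) hp
    rw [← hqp] at h6
    have h8 : q₀ ^ 6 ≤ (q₀ - 1) * q₀ ^ 6 := Nat.le_mul_of_pos_left _ (by omega)
    have h9 : 2 * q₀ ≤ q₀ ^ 6 := by
      calc 2 * q₀ ≤ q₀ * q₀ := Nat.mul_le_mul_right _ hq2
        _ = q₀ ^ 2 := (pow_two _).symm
        _ ≤ q₀ ^ 6 := Nat.pow_le_pow_right (by omega) (by norm_num)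
    omega

/-- **`³D₄(q)`** -/
theorem row_3d4 {K : Type v} [Field K] [Fintype K] {q₀ r : ℕ} (hq : IsPrimePow q₀) (hK : Fintype.card K = q₀ ^ 3)
    [CharP K r] (hrF : (r : F) ≠ 0) (h : Row k m P) (e : Soc P ≃* Lie.twistedD4 K q₀) : False := by
  have hn := h.le_of_ls e hrF (H203.LS.TwD4.ls hq hK)
  haveI : Finite ↥(Lie.twistedD4 K q₀) := Finite.of_equiv _ e.toEquiv
  obtain ⟨s, hs, h2, h7, hd⟩ := exists_prime_dvd h e
  obtain ⟨p, f, hp, hf, hqp, hc⟩ := exists_pf hq (by norm_num) hK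
  haveI : Fact p.Prime := ⟨hp⟩
  have hq2 : 2 ≤ q₀ := hq.two_le
  have hout : Nat.card (Cfsg.Out ↥(Lie.twistedD4 K q₀)) = 3 * f := by
    rw [hqp, Cfsg.Agent.S2129.result p f (by rw [hK, hqp, ← pow_mul, mul_comm]) hf]
  have h1 := Cfsg.Agent.S1067.result hq hK
  have h6 := lt_self_pow' (f := f) hp
  rw [← hqp] at h6
  rcases Nat.lt_or_ge q₀ 3 with h3 | h3
  · have hq2 : q₀ = 2 := by omega
    subst hq2
    have hf1 : f = 1 := by omega
    rw [hf1] at hout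
    have hdvd := card_aut_dvd ↥(Lie.twistedD4 K 2)
    rw [hout, h1] at hdvd
    have hnum := h.num
    have hk := hnum.nlt
    norm_num at hn hdvd
    refine hnum.kill (r₀ := 13) (by omega) ?_ ?_
    · intro r hr hrm
      have h8 := hnum.le_two_mul hr hrm
      have h9 := (hrm.trans (h.dvd_card e)).trans hdvd
      rw [show (634023936 : ℕ) = 2 ^ 12 * 3 ^ 5 * 7 ^ 2 * 13 by norm_num] at h9
      rcases hr.dvd_mul.1 h9 with h9 | h9
      · rcases hr.dvd_mul.1 h9 with h9 | h9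
        · rcases hr.dvd_mul.1 h9 with h9 | h9
          · have := Nat.le_of_dvd (by norm_num) (hr.dvd_of_dvd_pow h9)
            omega
          · have := Nat.le_of_dvd (by norm_num) (hr.dvd_of_dvd_pow h9)
            omega
        · have := Nat.le_of_dvd (by norm_num) (hr.dvd_of_dvd_pow h9)
          omega
      · exact (Nat.prime_dvd_prime_iff_eq hr (by norm_num)).1 h9
    · intro hsq
      have h9 := (hsq.trans (h.dvd_card e)).trans hdvd
      norm_num at h9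
  · rcases hd with hd | hd
    · rw [h1] at hd
      have h5 := num_3d4 h3 hs hd
      omega
    · rw [hout] at hd
      have h5 : s ≤ f := by
        rcases hs.dvd_mul.1 hd with hd | hd
        · have := Nat.le_of_dvd (by norm_num) hd
          omega
        · exact Nat.le_of_dvd hf hd
      have h8 : q₀ ^ 4 ≤ (q₀ - 1) * q₀ ^ 4 := Nat.le_mul_of_pos_left _ (by omega)
      have h9 : 2 * q₀ ≤ q₀ ^ 4 := by
        calc 2 * q₀ ≤ q₀ * q₀ := Nat.mul_le_mul_right _ hq2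
          _ = q₀ ^ 2 := (pow_two _).symm
          _ ≤ q₀ ^ 4 := Nat.pow_le_pow_right (by omega) (by norm_num)
      omega

/-- **`²F₄(q)`** -/
theorem row_2f4 (h2 : (2 : F) ≠ 0) (h : Row k m P) (hT : Lie.Iso2F4 (Soc P)) : False := by
  obtain ⟨K, _, _, μ, hμ, hK, ⟨e⟩⟩ := hT
  have hn := h.le_of_ls e (by exact_mod_cast h2) (H203.LS.TwF4.ls hμ hK)
  haveI : Finite ↥(Lie.twistedF4 K (2 ^ μ)) := Finite.of_equiv _ e.toEquiv
  obtain ⟨s, hs, h2', h7, hd⟩ := exists_prime_dvd h e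
  rw [Nat.card_eq_fintype_card, hK] at hn
  obtain ⟨Q, hQ⟩ : ∃ Q, Q = 2 ^ (2 * μ + 1) := ⟨_, rfl⟩
  obtain ⟨t, ht⟩ : ∃ t, t = 2 ^ (μ + 1) := ⟨_, rfl⟩
  have hQ8 : 8 ≤ Q := by
    rw [hQ]
    calc 8 = 2 ^ 3 := by norm_num
      _ ≤ 2 ^ (2 * μ + 1) := Nat.pow_le_pow_right (by norm_num) (by omega)
  have htt : t * t = 2 * Q := by
    rw [ht, hQ, ← pow_add, ← pow_succ']
    congr 1
    omega
  have htQ : 2 * t ≤ Q := by
    rw [ht, hQ, ← pow_succ']
    exact Nat.pow_le_pow_right (by norm_num) (by omega)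
  rw [← hQ] at hn
  rcases hd with hd | hd
  · rw [Cfsg.Agent.S1068.result hK, ← hQ] at hd
    have := num_2f4 hQ8 htt htQ hs hd
    omega
  · rw [Cfsg.Agent.S2128.result hμ hK] at hd
    have h5 := Nat.le_of_dvd (by omega) hd
    have h6 := lt_self_pow' (f := 2 * μ + 1) Nat.prime_two
    rw [← hQ] at h6
    have h8 : 7 * Q ^ 2 ≤ (Q - 1) * Q ^ 2 := Nat.mul_le_mul_right _ (by omega)
    have h9 : Q ≤ Q ^ 2 := Nat.le_self_pow (by norm_num) Q
    omega

/-- **The Tits group** (all characteristics) -/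
theorem row_tits (h : Row k m P) (hT : Lie.IsoTits (Soc P)) : False := by
  have hout := H867.TitsOut.card_out_le hT
  obtain ⟨e⟩ := hT
  haveI : Finite Lie.TitsGroup := Finite.of_equiv _ e.toEquiv
  haveI : Finite (MulAut (Soc P)) := inferInstance
  haveI : Finite (Cfsg.Out (Soc P)) := Quotient.finite _
  have hcard : Nat.card (Soc P) = 2 ^ 11 * 3 ^ 3 * 5 ^ 2 * 13 := by
    rw [Nat.card_congr e.toEquiv]
    exact Cfsg.Agent.S1074.result.2.2.2
  have hout' : Nat.card (Cfsg.Out (Soc P)) ∣ 2 := by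
    have h3 : 0 < Nat.card (Cfsg.Out (Soc P)) := Nat.card_pos
    have h4 : Nat.card (Cfsg.Out (Soc P)) = 1 ∨ Nat.card (Cfsg.Out (Soc P)) = 2 := by omega
    rcases h4 with h4 | h4 <;> rw [h4]
    norm_num
  have hdvd : Nat.card (MulAut (Soc P)) ∣ 2 ^ 12 * 3 ^ 3 * 5 ^ 2 * 13 := by
    refine (card_aut_dvd (Soc P)).trans ?_
    rw [hcard, show (2 : ℕ) ^ 12 * 3 ^ 3 * 5 ^ 2 * 13 = 2 * (2 ^ 11 * 3 ^ 3 * 5 ^ 2 * 13) by norm_num]
    exact mul_dvd_mul_right hout' _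
  have h6 := h.num.six_le
  refine h.kill (MulEquiv.refl _) hdvd (r₀ := 13) (by omega) ?_ (by norm_num)
  intro r hr h9 _ h7
  rcases hr.dvd_mul.1 h9 with h9 | h9
  · rcases hr.dvd_mul.1 h9 with h9 | h9
    · rcases hr.dvd_mul.1 h9 with h9 | h9
      · have := Nat.le_of_dvd (by norm_num) (hr.dvd_of_dvd_pow h9)
        omega
      · have := Nat.le_of_dvd (by norm_num) (hr.dvd_of_dvd_pow h9)
        omega
    · have := Nat.le_of_dvd (by norm_num) (hr.dvd_of_dvd_pow h9)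
      omega
  · exact (Nat.prime_dvd_prime_iff_eq hr (by norm_num)).1 h9

end Cfsg.Agent.H12.Ppd
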