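import Cfsg.Agent.H12.Ppd.Tools
import Cfsg.Agent.H203.LSSz
import Cfsg.Agent.OddCyclic.ClaimC.SzIso
import Cfsg.Agent.S0330
import Cfsg.Agent.S1069
import Cfsg.Agent.S1159
import Cfsg.Agent.S1163
import Cfsg.Agent.S2126
import Cfsg.Agent.S2127
import Cfsg.Agent.S2238

/-!
# TEAM PPD (S5948): the Suzuki and Ree groups in cross characteristic (helper12)
-/

set_option autoImplicit false
set_option linter.unusedSectionVars false
set_option linter.style.haveILetI false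

namespace Cfsg.Agent.H12.Ppd

open Cfsg Cfsg.Geo Matrix
open Cfsg.Agent.H915.LD Cfsg.Agent.H100.Ppd

universe u v w

/-- the orders of the elements of the Suzuki group -/
theorem sz_orderOf {F : Type w} [Field F] [Fintype F] {m : ℕ} (hm : 1 ≤ m)
    (hF : Fintype.card F = 2 ^ (2 * m + 1)) (x : ↥(Cfsg.Lie.Sz F (2 ^ (m + 1)))) :
    orderOf x ∣ 4 ∨ orderOf x ∣ 2 ^ (2 * m + 1) - 1 ∨ orderOf x ∣ 2 ^ (2 * m + 1) + 2 ^ (m + 1) + 1 ∨
      orderOf x ∣ 2 ^ (2 * m + 1) - 2 ^ (m + 1) + 1 := by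
  obtain ⟨e⟩ := Cfsg.Agent.OddCyclic.ClaimC.SzIso.iso (F := F) hm hF
  obtain ⟨g, rfl⟩ := e.surjective x
  rw [MulEquiv.orderOf_eq]
  by_cases hg : g = 1
  · left
    rw [hg, orderOf_one]
    exact one_dvd 4
  obtain ⟨U, ⟨hU, hgU⟩, -⟩ := Cfsg.Agent.S2238.result hm hF g hg
  rcases hU with ⟨P, rfl⟩ | ⟨-, hc⟩
  · left
    have h1 := (Cfsg.Agent.S0330.result hm hF P).2.1
    have h2 : orderOf (⟨g, hgU⟩ : (P : Subgroup (Cfsg.Sz F m))) ∣ Monoid.exponent P := Monoid.order_dvd_exponent _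
    rw [Subgroup.orderOf_mk] at h2
    exact h2.trans h1.dvd
  · right
    have h2 : orderOf (⟨g, hgU⟩ : U) ∣ Nat.card U := orderOf_dvd_natCard _
    rw [Subgroup.orderOf_mk] at h2
    rcases hc with hc | hc | hc
    · exact Or.inl (hc ▸ h2)
    · exact Or.inr (Or.inl (hc ▸ h2))
    · exact Or.inr (Or.inr (hc ▸ h2))

variable {n : ℕ} {F : Type u} [Field F] [Finite F] {k m : ℕ} {P : Subgroup (GL (Fin n) F)}

/-- the common numeric part: `m` is (a divisor of) `Q + t + 1` -/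
theorem num_szree {q n k m Q t : ℕ} (h : Num q n k m) (hn : Q - 1 ≤ n) (ht : 0 < t) (hQ : 8 ≤ Q) (htQ : 2 * t ≤ Q)
    (hQ' : Q = 8 ∨ 2 * t < Q) (hm : m ∣ Q + t + 1) (hQt : Q = 8 → t = 4) : False := by
  have hk := h.nlt
  have hkm := h.mlt
  have h6 := h.six_le
  -- `m = Q + t + 1`
  have h1 : m = Q + t + 1 := by
    obtain ⟨c, hc⟩ := hm
    have hc0 : c ≠ 0 := by
      rintro rfl
      omega
    by_cases hc1 : c = 1
    · rw [hc, hc1, mul_one]
    · exfalso
      have h2 : m * 2 ≤ m * c := Nat.mul_le_mul_left _ (by omega)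
      omega
  -- `m` is prime
  obtain ⟨s, hs, hsm⟩ := h.exists_prime
  have hs1 := h.le_two_mul hs hsm
  have h2 : m = s := by
    obtain ⟨c, hc⟩ := hsm
    by_cases hc1 : c = 1
    · rw [hc, hc1, mul_one]
    · exfalso
      obtain ⟨s', hs', hs'c⟩ := Nat.exists_prime_and_dvd hc1
      have hs'm : s' ∣ m := by rw [hc]; exact hs'c.mul_left _
      have hs2 := h.le_two_mul hs' hs'm
      have hc0 : c ≠ 0 := by
        rintro rfl
        omega
      have hc2 := Nat.le_of_dvd (by omega) hs'c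
      have h3 : s * s' ≤ m := by rw [hc]; exact Nat.mul_le_mul_left _ hc2
      have h4 : (Q + 2) * (Q + 2) ≤ (2 * s) * (2 * s') := Nat.mul_le_mul (by omega) (by omega)
      have h5 : (2 * s) * (2 * s') = 4 * (s * s') := by ring
      nlinarith
  have h3 := h.dvd_sub_one hs (by rw [h2])
  rw [← h2, h1, Nat.add_sub_cancel] at h3
  obtain ⟨c, hc⟩ := h3
  have hc3 : 3 ≤ c := by
    by_contra hlt
    have : c ≤ 2 := by omega
    have : k * c ≤ k * 2 := Nat.mul_le_mul_left _ this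
    omega
  have h4 : k * 3 ≤ k * c := Nat.mul_le_mul_left _ hc3
  rcases hQ' with h5 | h5
  · have := hQt h5
    omega
  · omega

/-- **The Suzuki groups** -/
theorem row_sz (h2 : (2 : F) ≠ 0) (h : Row k m P) (hT : Lie.IsoSuzuki (Soc P)) : False := by
  obtain ⟨K, _, _, μ, hμ, hK, ⟨e⟩⟩ := hT
  have hn := h.le_of_ls e (by exact_mod_cast h2) (H203.LS.LS.sz hμ hK)
  haveI : Finite ↥(Lie.Sz K (2 ^ (μ + 1))) := Finite.of_equiv _ e.toEquiv
  rw [Nat.card_eq_fintype_card, hK] at hn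
  have hout := Cfsg.Agent.S2126.result hμ hK
  have hfQ : 2 * (2 * μ + 1) ≤ 2 ^ (2 * μ + 1) := by
    rw [pow_succ']
    exact Nat.mul_le_mul_left _ (Nat.lt_pow_self (by norm_num : 1 < 2))
  have hcop : m.Coprime (Nat.card (Cfsg.Out ↥(Lie.Sz K (2 ^ (μ + 1))))) := by
    rw [hout]
    apply Nat.Coprime.symm
    by_contra hne
    obtain ⟨s, hs, hsd⟩ := Nat.exists_prime_and_dvd hne
    have h3 := h.num.le_two_mul hs (hsd.trans (Nat.gcd_dvd_right _ _))
    have h4 := Nat.le_of_dvd (by omega) (hsd.trans (Nat.gcd_dvd_left _ _))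
    omega
  obtain ⟨y, hy⟩ := h.exists_elt e hcop
  have ho := sz_orderOf hμ hK y
  rw [hy] at ho
  have hkm := h.num.mlt
  have hk := h.num.nlt
  have h6 := h.num.six_le
  obtain ⟨Q, hQ⟩ : ∃ Q, Q = 2 ^ (2 * μ + 1) := ⟨_, rfl⟩
  obtain ⟨t, ht⟩ : ∃ t, t = 2 ^ (μ + 1) := ⟨_, rfl⟩
  have hQ8 : 8 ≤ Q := by
    rw [hQ]
    calc 8 = 2 ^ 3 := by norm_num
      _ ≤ 2 ^ (2 * μ + 1) := Nat.pow_le_pow_right (by norm_num) (by omega)
  have htQ : 2 * t ≤ Q := by
    rw [ht, hQ, ← pow_succ']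
    exact Nat.pow_le_pow_right (by norm_num) (by omega)
  have ht0 : 0 < t := by rw [ht]; positivity
  rw [← hQ, ← ht] at ho
  rw [← hQ] at hn
  rcases ho with ho | ho | ho | ho
  · have := Nat.le_of_dvd (by norm_num) ho
    omega
  · have := Nat.le_of_dvd (by omega) ho
    omega
  · refine num_szree h.num hn ht0 hQ8 htQ ?_ ho ?_
    · by_cases h1 : μ = 1
      · left
        rw [hQ, h1]
        norm_num
      · right
        rw [ht, hQ, ← pow_succ']
        exact Nat.pow_lt_pow_right (by norm_num) (by omega)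
    · intro h8
      have h1 : μ = 1 := by
        by_contra h1
        have h3 : 2 ^ 5 ≤ Q := by
          rw [hQ]; exact Nat.pow_le_pow_right (by norm_num) (by omega)
        omega
      rw [ht, h1]
      norm_num
  · have := Nat.le_of_dvd (by omega) ho
    omega

/-- **The Ree groups** -/
theorem row_ree (h3 : (3 : F) ≠ 0) (h : Row k m P) (hT : Lie.IsoRee (Soc P)) : False := by
  obtain ⟨K, _, _, μ, hμ, hK, ⟨e⟩⟩ := hT
  have hn := h.le_of_ls e (by exact_mod_cast h3) (H203.LS.LS.ree hμ hK)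
  haveI : Finite ↥(Lie.twistedG2 K (3 ^ μ)) := Finite.of_equiv _ e.toEquiv
  rw [Nat.card_eq_fintype_card, hK] at hn
  have hout := Cfsg.Agent.S2127.result hμ hK
  have hfQ : 2 * (2 * μ + 1) ≤ 3 ^ (2 * μ + 1) := by
    rw [pow_succ']
    have : 2 * μ < 3 ^ (2 * μ) := Nat.lt_pow_self (by norm_num : 1 < 3)
    omega
  have hcop : m.Coprime (Nat.card (Cfsg.Out ↥(Lie.twistedG2 K (3 ^ μ)))) := by
    rw [hout]
    apply Nat.Coprime.symm
    by_contra hne
    obtain ⟨s, hs, hsd⟩ := Nat.exists_prime_and_dvd hne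
    have h3 := h.num.le_two_mul hs (hsd.trans (Nat.gcd_dvd_right _ _))
    have h4 := Nat.le_of_dvd (by omega) (hsd.trans (Nat.gcd_dvd_left _ _))
    omega
  obtain ⟨y, hy⟩ := h.exists_elt e hcop
  have ho := (Cfsg.Agent.S1159.result hμ hK m).1 ⟨y, hy⟩
  have hkm := h.num.mlt
  have hk := h.num.nlt
  have h6 := h.num.six_le
  obtain ⟨Q, hQ⟩ : ∃ Q, Q = 3 ^ (2 * μ + 1) := ⟨_, rfl⟩
  obtain ⟨t, ht⟩ : ∃ t, t = 3 ^ (μ + 1) := ⟨_, rfl⟩
  have hQ8 : 27 ≤ Q := by
    rw [hQ]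
    calc 27 = 3 ^ 3 := by norm_num
      _ ≤ 3 ^ (2 * μ + 1) := Nat.pow_le_pow_right (by norm_num) (by omega)
  have htQ : 3 * t ≤ Q := by
    rw [ht, hQ, ← pow_succ']
    exact Nat.pow_le_pow_right (by norm_num) (by omega)
  have ht0 : 0 < t := by rw [ht]; positivity
  rw [← hQ, ← ht] at ho
  rw [← hQ] at hn
  rcases ho with ho | ho | ho | ho | ho | ho
  · have := Nat.le_of_dvd (by norm_num) ho
    omega
  · have := Nat.le_of_dvd (by norm_num) ho
    omega
  · have := Nat.le_of_dvd (by omega) ho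
    omega
  · have := Nat.le_of_dvd (by omega) ho
    omega
  · have := Nat.le_of_dvd (by omega) ho
    omega
  · exact num_szree h.num hn ht0 (by omega) (by omega) (Or.inr (by omega)) ho (by omega)

end Cfsg.Agent.H12.Ppd
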