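import Cfsg.Agent.H100.Ppd.Basic

/-!
# TEAM PPD (S5948): numeric tools (helper12)
-/

set_option autoImplicit false
set_option linter.unusedSectionVars false

namespace Cfsg.Agent.H12.Ppd

open Cfsg Cfsg.Geo Matrix
open Cfsg.Agent.H915.LD Cfsg.Agent.H100.Ppd

universe u v w

/-- primes dividing `|Aut T|` divide `|T|` or `|Out T|` -/
theorem dvd_or {T : Type v} [Group T] [Finite T] {s : ℕ} (hs : s.Prime) (h : s ∣ Nat.card (MulAut T)) :
    s ∣ Nat.card T ∨ s ∣ Nat.card (Cfsg.Out T) := by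
  have h1 : Nat.card (MulAut T) = Nat.card (Cfsg.Out T) * Nat.card (Inn T) :=
    Subgroup.card_eq_card_quotient_mul_card_subgroup _
  rw [h1] at h
  rcases hs.dvd_mul.1 h with h2 | h2
  · exact Or.inr h2
  · left
    have h3 : Nat.card (Inn T) ∣ Nat.card T := by
      have : (Inn T) = (MulAut.conj : T →* MulAut T).range := rfl
      rw [this]
      exact Subgroup.card_range_dvd _
    exact h2.trans h3

/-- `|Aut T|` divides `|Out T| |T|` -/
theorem card_aut_dvd (T : Type v) [Group T] [Finite T] :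
    Nat.card (MulAut T) ∣ Nat.card (Cfsg.Out T) * Nat.card T := by
  have h1 : Nat.card (MulAut T) = Nat.card (Cfsg.Out T) * Nat.card (Inn T) :=
    Subgroup.card_eq_card_quotient_mul_card_subgroup _
  rw [h1]
  have h3 : Nat.card (Inn T) ∣ Nat.card T := by
    have : (Inn T) = (MulAut.conj : T →* MulAut T).range := rfl
    rw [this]
    exact Subgroup.card_range_dvd _
  exact mul_dvd_mul_left _ h3

/-- a prime dividing a product of small positive numbers is small -/
theorem le_of_dvd_prod {s B : ℕ} (hs : s.Prime) (L : List ℕ) (hL : ∀ x ∈ L, 0 < x ∧ x ≤ B) (h : s ∣ L.prod) :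
    s ≤ B := by
  obtain ⟨a, ha, hsa⟩ := (Nat.Prime.prime hs).dvd_prod_iff.1 h
  exact (Nat.le_of_dvd (hL a ha).1 hsa).trans (hL a ha).2

theorem card_out_congr {S : Type v} {T : Type w} [Group S] [Group T] (e : S ≃* T) :
    Nat.card (Cfsg.Out S) = Nat.card (Cfsg.Out T) := by
  have hmap : (Inn S).map (MulAut.congr e).toMonoidHom = Inn T := by
    ext x
    constructor
    · rintro ⟨_, ⟨g, rfl⟩, rfl⟩
      exact ⟨e g, by ext x; simp [MulAut.congr]⟩
    · rintro ⟨g, rfl⟩
      refine ⟨_, ⟨e.symm g, rfl⟩, ?_⟩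
      ext x
      simp [MulAut.congr]
  exact Nat.card_congr (QuotientGroup.congr (Cfsg.Inn S) (Cfsg.Inn T) (MulAut.congr e) hmap).toEquiv

variable {n : ℕ} {F : Type u} [Field F] [Finite F] {k m : ℕ} {P : Subgroup (GL (Fin n) F)}

/-- all prime divisors of `m` are large -/
theorem exists_prime_dvd {T : Type v} [Group T] [Finite T] (h : Row k m P) (e : Soc P ≃* T) :
    ∃ s, s.Prime ∧ n + 3 ≤ 2 * s ∧ 7 ≤ s ∧ (s ∣ Nat.card T ∨ s ∣ Nat.card (Cfsg.Out T)) := by
  obtain ⟨s, hs, hsm⟩ := h.num.exists_prime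
  exact ⟨s, hs, h.num.le_two_mul hs hsm, h.num.seven_le hs hsm, dvd_or hs (hsm.trans (h.dvd_card e))⟩

end Cfsg.Agent.H12.Ppd
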